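import Groth.Prelude.Def_CoactBr
import Groth.Agent.Lib.GrpQuot.Ring

/-!
# The groupoid of a comodule algebra over a finite projective Hopf algebra; orbits of geometric points
-/

set_option autoImplicit false
universe u

noncomputable section

open CategoryTheory MonoidalCategory CartesianMonoidalCategory MonObj AlgebraicGeometry
open scoped TensorProduct

namespace Groth.Agent.CoactOrb23

section Alg

variable {R A B : Type u} [CommRing R] [CommRing A] [HopfAlgebra R A] [CommRing B] [Algebra R B]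
  [HopfRep.Comod R A B] [GLin.IsCoactAlg R A B] {L : Type u} [CommRing L] [Algebra R L]

/-- The source of an arrow. -/
abbrev pb (φ : B ⊗[R] A →ₐ[R] L) : B →ₐ[R] L := φ.comp Algebra.TensorProduct.includeLeft

/-- The group component of an arrow. -/
abbrev pa (φ : B ⊗[R] A →ₐ[R] L) : A →ₐ[R] L := φ.comp Algebra.TensorProduct.includeRight

/-- The convolution product. -/
abbrev conv (g h : A →ₐ[R] L) : A →ₐ[R] L :=
  (Algebra.TensorProduct.lift g h fun _ _ => .all _ _).comp (Bialgebra.comulAlgHom R A)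

theorem pt_conv (g h : A →ₐ[R] L) : CoactBr.pt (conv g h) = CoactBr.pt g * CoactBr.pt h :=
  (CoactBr.pt_mul_pt g h).symm

theorem lift_pb_pa (φ : B ⊗[R] A →ₐ[R] L) :
    Algebra.TensorProduct.lift (pb φ) (pa φ) (fun _ _ => .all _ _) = φ := by
  refine Algebra.TensorProduct.ext' fun b a => ?_
  simp [← map_mul]

/-- Composition of arrows: `φ` after `ψ`. -/
def comb (φ ψ : B ⊗[R] A →ₐ[R] L) : B ⊗[R] A →ₐ[R] L :=
  Algebra.TensorProduct.lift (pb ψ) (conv (pa ψ) (pa φ)) fun _ _ => .all _ _

theorem pb_comb (φ ψ : B ⊗[R] A →ₐ[R] L) : pb (comb φ ψ) = pb ψ :=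
  Algebra.TensorProduct.lift_comp_includeLeft _ _ fun _ _ => .all _ _

theorem pa_comb (φ ψ : B ⊗[R] A →ₐ[R] L) : pa (comb φ ψ) = conv (pa ψ) (pa φ) :=
  AlgHom.ext fun a => by simp [comb]

theorem ext_pb_pa {φ ψ : B ⊗[R] A →ₐ[R] L} (h₁ : pb φ = pb ψ) (h₂ : pa φ = pa ψ) : φ = ψ :=
  Algebra.TensorProduct.ext h₁ h₂

theorem comb_tgt (φ ψ : B ⊗[R] A →ₐ[R] L) (h : pb φ = ψ.comp (GLin.coactAlgHom R A B)) :
    (comb φ ψ).comp (GLin.coactAlgHom R A B) = φ.comp (GLin.coactAlgHom R A B) := by
  refine CoactBr.pt_injective ?_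
  conv_rhs => rw [← lift_pb_pa φ, ← CoactBr.lift_pt_ract, h, ← lift_pb_pa ψ, ← CoactBr.lift_pt_ract,
    CoactBr.lift_ract_ract]
  rw [comb, ← CoactBr.lift_pt_ract, pt_conv]

/-- The inversion of the groupoid. -/
def invA : B ⊗[R] A →ₐ[R] B ⊗[R] A :=
  Algebra.TensorProduct.lift (GLin.coactAlgHom R A B)
    ((Algebra.TensorProduct.includeRight).comp (HopfAlgebra.antipodeAlgHom R A)) fun _ _ => .all _ _

theorem invA_left : (invA (R := R) (A := A) (B := B)).comp Algebra.TensorProduct.includeLeft =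
    GLin.coactAlgHom R A B :=
  Algebra.TensorProduct.lift_comp_includeLeft _ _ fun _ _ => .all _ _

theorem invA_tgt : (invA (R := R) (A := A) (B := B)).comp (GLin.coactAlgHom R A B) =
    Algebra.TensorProduct.includeLeft := by
  refine CoactBr.pt_injective ?_
  rw [invA, ← CoactBr.lift_pt_ract, ← CoactBr.pt_inv,
    show GLin.coactAlgHom R A B = (Algebra.TensorProduct.lift (pb (AlgHom.id R (B ⊗[R] A)))
      (pa (AlgHom.id R (B ⊗[R] A))) fun _ _ => .all _ _).comp (GLin.coactAlgHom R A B) by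
        rw [lift_pb_pa, AlgHom.id_comp],
    ← CoactBr.lift_pt_ract, CoactBr.lift_ract_ract]
  simp only [pa, pb, AlgHom.id_comp]
  rw [mul_inv_cancel, CoactBr.lift_one_ract]

/-- The units of the groupoid. -/
def oneA : B ⊗[R] A →ₐ[R] B :=
  Algebra.TensorProduct.lift (AlgHom.id R B) ((Algebra.ofId R B).comp (Bialgebra.counitAlgHom R A))
    fun _ _ => .all _ _

theorem oneA_tgt : (oneA (R := R) (A := A) (B := B)).comp (GLin.coactAlgHom R A B) = AlgHom.id R B := by
  refine CoactBr.pt_injective ?_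
  rw [oneA, ← CoactBr.lift_pt_ract, ← CoactBr.one_eq_pt, CoactBr.lift_one_ract]

theorem pa_comp_invA (ψ : B ⊗[R] A →ₐ[R] L) :
    pa (ψ.comp invA) = (pa ψ).comp (HopfAlgebra.antipodeAlgHom R A) := by
  refine AlgHom.ext fun a => congrArg ψ ?_
  simp [invA, GLin.IsCoactAlg.coact_one]

theorem comb_cancel (χ ψ : B ⊗[R] A →ₐ[R] L) (h : pb χ = pb ψ) : comb (comb χ (ψ.comp invA)) ψ = χ := by
  refine ext_pb_pa ((pb_comb _ _).trans h.symm) (CoactBr.pt_injective ?_)
  rw [pa_comb, pt_conv, pa_comb, pt_conv, pa_comp_invA, ← CoactBr.pt_inv, mul_inv_cancel_left]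

theorem comb_cancel' (χ ψ : B ⊗[R] A →ₐ[R] L) (h : pb χ = ψ.comp (GLin.coactAlgHom R A B)) :
    comb (comb χ ψ) (ψ.comp invA) = χ := by
  refine ext_pb_pa ?_ (CoactBr.pt_injective ?_)
  · rw [pb_comb, h, pb, AlgHom.comp_assoc, invA_left]
  · rw [pa_comb, pt_conv, pa_comb, pt_conv, pa_comp_invA, ← CoactBr.pt_inv, inv_mul_cancel_left]

theorem comb_natural {L' : Type u} [CommRing L'] [Algebra R L'] (g : L →+* L') (φ ψ : B ⊗[R] A →ₐ[R] L)
    (φ' ψ' : B ⊗[R] A →ₐ[R] L') (hφ : g.comp φ.toRingHom = φ'.toRingHom) (hψ : g.comp ψ.toRingHom = ψ'.toRingHom) :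
    g.comp (comb φ ψ).toRingHom = (comb φ' ψ').toRingHom := by
  have e₁ : ∀ c, g (φ c) = φ' c := RingHom.congr_fun hφ
  have e₂ : ∀ c, g (ψ c) = ψ' c := RingHom.congr_fun hψ
  refine RingHom.ext fun c => ?_
  induction c using TensorProduct.induction_on with
  | zero => simp
  | add x y hx hy => simp only [map_add, hx, hy]
  | tmul b a =>
    simp only [comb, RingHom.comp_apply, AlgHom.toRingHom_eq_coe, RingHom.coe_coe,
      Algebra.TensorProduct.lift_tmul, AlgHom.comp_apply, map_mul, Algebra.TensorProduct.includeLeft_apply, e₂]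
    congr 1
    induction Bialgebra.comulAlgHom R A a using TensorProduct.induction_on with
    | zero => simp
    | add x y hx hy => simp only [map_add, hx, hy]
    | tmul x y => simp [e₁, e₂]

end Alg

section Groupoid

variable (R A B : Type u) [CommRing R] [CommRing A] [HopfAlgebra R A] [CommRing B] [Algebra R B]
  [HopfRep.Comod R A B] [GLin.IsCoactAlg R A B]

/-- The groupoid of the action. -/
def grpR : GrpQuot.GrpR (A := B) (B := B ⊗[R] A) (GLin.coactAlgHom R A B).toRingHom where
  mul {L} _ φ ψ h :=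
    letI := (ψ.comp (algebraMap R (B ⊗[R] A))).toAlgebra
    (comb (R := R) (A := A) (B := B) (L := L)
      { toRingHom := φ
        commutes' := fun r => (RingHom.congr_fun h (algebraMap R B r)).trans (by
          show ψ (GLin.coactAlgHom R A B (algebraMap R B r)) = ψ (algebraMap R (B ⊗[R] A) r)
          rw [AlgHom.commutes]) }
      { toRingHom := ψ, commutes' := fun _ => rfl }).toRingHom
  mul_s {L} _ φ ψ h := by
    let alg := (ψ.comp (algebraMap R (B ⊗[R] A))).toAlgebra
    letI := alg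
    exact congrArg AlgHom.toRingHom (pb_comb (R := R) (A := A) (B := B) (L := L) _ _)
  mul_t {L} _ φ ψ h := by
    let alg := (ψ.comp (algebraMap R (B ⊗[R] A))).toAlgebra
    letI := alg
    refine congrArg AlgHom.toRingHom (comb_tgt (R := R) (A := A) (B := B) (L := L) _ _ ?_)
    exact AlgHom.ext fun b => RingHom.congr_fun h b
  comp_mul {L L'} _ _ g φ ψ h := by
    letI := (ψ.comp (algebraMap R (B ⊗[R] A))).toAlgebra
    letI := ((g.comp ψ).comp (algebraMap R (B ⊗[R] A))).toAlgebra
    exact comb_natural (R := R) (A := A) (B := B) g _ _ _ _ rfl rfl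
  one := (oneA (R := R) (A := A) (B := B)).toRingHom
  one_s := congrArg AlgHom.toRingHom (Algebra.TensorProduct.lift_comp_includeLeft (AlgHom.id R B)
    ((Algebra.ofId R B).comp (Bialgebra.counitAlgHom R A)) fun _ _ => .all _ _)
  one_t := congrArg AlgHom.toRingHom oneA_tgt
  inv := (invA (R := R) (A := A) (B := B)).toRingHom
  inv_s := congrArg AlgHom.toRingHom invA_left
  inv_t := congrArg AlgHom.toRingHom invA_tgt
  cancel {L} _ χ ψ h := by
    letI iL : Algebra R L := (ψ.comp (algebraMap R (B ⊗[R] A))).toAlgebra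
    have hr : ∀ r : R, (ψ.comp (invA (R := R) (A := A) (B := B)).toRingHom) (algebraMap R _ r) =
        algebraMap R L r := fun r => congrArg ψ ((invA (R := R) (A := A) (B := B)).commutes r)
    let ψ' : B ⊗[R] A →ₐ[R] L := { toRingHom := ψ, commutes' := fun _ => rfl }
    let χ' : B ⊗[R] A →ₐ[R] L :=
      { toRingHom := χ, commutes' := fun r => RingHom.congr_fun h (algebraMap R B r) }
    refine Eq.trans ?_ (congrArg AlgHom.toRingHom (comb_cancel χ' ψ' (AlgHom.ext fun b => RingHom.congr_fun h b)))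
    refine (RingHom.id_comp _).symm.trans (comb_natural (RingHom.id L) _ _ _ _ ?_ rfl)
    exact (RingHom.id_comp _).trans ((RingHom.id_comp _).symm.trans
      (@comb_natural R A B _ _ _ _ _ _ _ L _
        (((ψ.comp (invA (R := R) (A := A) (B := B)).toRingHom).comp (algebraMap R (B ⊗[R] A))).toAlgebra)
        L _ iL (RingHom.id L) _ _ χ' (ψ'.comp invA) rfl rfl))
  cancel' {L} _ χ ψ h := by
    letI iL : Algebra R L := (ψ.comp (algebraMap R (B ⊗[R] A))).toAlgebra
    let ψ' : B ⊗[R] A →ₐ[R] L := { toRingHom := ψ, commutes' := fun _ => rfl }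
    let χ' : B ⊗[R] A →ₐ[R] L :=
      { toRingHom := χ, commutes' := fun r => (RingHom.congr_fun h (algebraMap R B r)).trans (by
          show ψ (GLin.coactAlgHom R A B (algebraMap R B r)) = ψ (algebraMap R (B ⊗[R] A) r)
          rw [AlgHom.commutes]) }
    refine Eq.trans ?_ (congrArg AlgHom.toRingHom (comb_cancel' χ' ψ' (AlgHom.ext fun b => RingHom.congr_fun h b)))
    exact (RingHom.id_comp _).symm.trans
      (@comb_natural R A B _ _ _ _ _ _ _ L _
        (((ψ.comp (invA (R := R) (A := A) (B := B)).toRingHom).comp (algebraMap R (B ⊗[R] A))).toAlgebra)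
        L _ iL (RingHom.id L) _ _ (comb χ' ψ') (ψ'.comp invA) (RingHom.id_comp _) rfl)

variable {R A B}

theorem eqLocus_iff (c : B) :
    c ∈ RingHom.eqLocus (algebraMap B (B ⊗[R] A)) (GLin.coactAlgHom R A B).toRingHom ↔
      c ∈ GLin.invariants R A B :=
  ⟨fun h => h.symm, fun h => h.symm⟩

theorem isIntegral_invariants [Module.Finite R A] [Module.Projective R A] :
    Algebra.IsIntegral (GLin.invariants R A B) B := by
  refine ⟨fun b => ?_⟩
  obtain ⟨p, hp, hb⟩ := GrpQuot.isIntegral (grpR R A B) b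
  let inc : (RingHom.eqLocus (algebraMap B (B ⊗[R] A)) (GLin.coactAlgHom R A B).toRingHom) →+*
      GLin.invariants R A B :=
    RingHom.codRestrict (Subring.subtype _) _ fun c => (eqLocus_iff c.1).1 c.2
  refine ⟨p.map inc, hp.map inc, ?_⟩
  rw [Polynomial.eval₂_map]
  exact hb

/-- Geometric points over the same point of the base of an algebra with trivial invariants are conjugate. -/
theorem exists_translate [Module.Finite R A] [Module.Projective R A]
    (hC : Function.Bijective (algebraMap R (GLin.invariants R A B)))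
    {K : Type u} [Field K] [IsAlgClosed K] [Algebra R K] (x₁ x₂ : B →ₐ[R] K) :
    ∃ g : A →ₐ[R] K, CartesianMonoidalCategory.lift (CoactBr.pt x₁) (CoactBr.pt g) ≫ CoactBr.ract R A B =
      CoactBr.pt x₂ := by
  obtain ⟨φ, hs, ht⟩ := GrpQuot.exists_arrow (grpR R A B) (x := x₁.toRingHom) (y := x₂.toRingHom) (fun c hc => by
    obtain ⟨r, hr⟩ := hC.2 ⟨c, (eqLocus_iff c).1 hc⟩
    rw [show c = algebraMap R B r from (congrArg Subtype.val hr).symm]
    exact (x₁.commutes r).trans (x₂.commutes r).symm)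
  let φ' : B ⊗[R] A →ₐ[R] K :=
    { toRingHom := φ
      commutes' := fun r => (RingHom.congr_fun hs (algebraMap R B r)).trans (x₁.commutes r) }
  refine ⟨pa φ', ?_⟩
  rw [show x₁ = pb φ' from AlgHom.coe_ringHom_injective hs.symm, CoactBr.lift_pt_ract, lift_pb_pa]
  exact congrArg CoactBr.pt (AlgHom.coe_ringHom_injective ht)

end Groupoid

end Groth.Agent.CoactOrb23
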