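import Groth.Agent.Lib.CoactOrb23.Grpd
import Mathlib.AlgebraicGeometry.GammaSpecAdjunction
import Mathlib.AlgebraicGeometry.Morphisms.Flat
import Mathlib.FieldTheory.IsAlgClosed.AlgebraicClosure
import Mathlib.RingTheory.LocalRing.Module

/-!
# Inertia of points of a comodule algebra over a finite projective Hopf algebra
-/

set_option autoImplicit false
universe u

noncomputable section

open CategoryTheory Limits MonoidalCategory CartesianMonoidalCategory MonObj AlgebraicGeometry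
open scoped TensorProduct

namespace Groth.Agent.CoactOrb23

section Points

variable {R : Type u} [CommRing R]

theorem toSpecΓ_injective {X : Scheme.{u}} {B : CommRingCat.{u}} {φ ψ : B ⟶ Γ(X, ⊤)}
    (h : X.toSpecΓ ≫ Spec.map φ = X.toSpecΓ ≫ Spec.map ψ) : φ = ψ := by
  have e := congrArg Scheme.Hom.appTop h
  rw [Scheme.Hom.comp_appTop, Scheme.Hom.comp_appTop, Scheme.toSpecΓ_appTop,
    Scheme.ΓSpecIso_naturality, Scheme.ΓSpecIso_naturality, cancel_epi] at e
  exact e

theorem toSpecΓ_specMap {X : Scheme.{u}} {B : CommRingCat.{u}} (m : X ⟶ Spec B) :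
    X.toSpecΓ ≫ Spec.map ((Scheme.ΓSpecIso B).inv ≫ m.appTop) = m := by
  rw [Spec.map_comp, ← Category.assoc, ← Scheme.toSpecΓ_naturality, Category.assoc,
    toSpecΓ_SpecMap_ΓSpecIso_inv, Category.comp_id]

/-- Points with values in a scheme come from points with values in its ring of functions. -/
theorem exists_affinization (T : Over (Spec (CommRingCat.of R))) :
    ∃ (L : Type u) (_ : CommRing L) (_ : Algebra R L) (c : T ⟶ CoactBr.sp R L),
      (∀ (B : Type u) [CommRing B] [Algebra R B] (m : T ⟶ CoactBr.sp R B),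
        ∃ φ : B →ₐ[R] L, c ≫ CoactBr.pt φ = m) ∧
      (∀ (B : Type u) [CommRing B] [Algebra R B] (φ ψ : B →ₐ[R] L),
        c ≫ CoactBr.pt φ = c ≫ CoactBr.pt ψ → φ = ψ) ∧
      (IsAffine T.left → IsIso c.left) := by
  letI : Algebra R Γ(T.left, ⊤) :=
    ((Scheme.ΓSpecIso (CommRingCat.of R)).inv ≫ T.hom.appTop).hom.toAlgebra
  refine ⟨Γ(T.left, ⊤), inferInstance, inferInstance,
    Over.homMk T.left.toSpecΓ (toSpecΓ_specMap T.hom), ?_, ?_, fun h => ?_⟩
  · intro B _ _ m
    let φ := (Scheme.ΓSpecIso (CommRingCat.of B)).inv ≫ m.left.appTop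
    have hφ : CommRingCat.ofHom (algebraMap R B) ≫ φ = CommRingCat.ofHom (algebraMap R Γ(T.left, ⊤)) := by
      refine toSpecΓ_injective ?_
      rw [Spec.map_comp, ← Category.assoc]
      refine (congrArg (· ≫ _) (toSpecΓ_specMap m.left)).trans ?_
      exact (Over.w m).trans (toSpecΓ_specMap T.hom).symm
    exact ⟨{ toRingHom := φ.hom, commutes' := fun r => ConcreteCategory.congr_hom hφ r },
      Over.OverMorphism.ext (toSpecΓ_specMap m.left)⟩
  · intro B _ _ φ ψ h
    exact AlgHom.coe_ringHom_injective (congrArg CommRingCat.Hom.hom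
      (toSpecΓ_injective (congrArg (fun q => q.left) h)))
  · exact IsAffine.affine

end Points

section Action

variable {R A B : Type u} [CommRing R] [CommRing A] [HopfAlgebra R A] [CommRing B] [Algebra R B]
  [HopfRep.Comod R A B] [GLin.IsCoactAlg R A B]

/-- The stabiliser of a point is the same for both sides of the action. -/
theorem fix_iff {T : Over (Spec (CommRingCat.of R))} (g : T ⟶ CoactBr.sp R A) (ζ : T ⟶ CoactBr.sp R B) :
    lift g ζ ≫ (CoactBr.action R A B).act = ζ ↔ lift ζ g ≫ CoactBr.ract R A B = ζ := by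
  rw [CoactBr.lift_action_act]
  constructor <;> intro h
  · conv_lhs => rw [← h, CoactBr.lift_ract_ract, inv_mul_cancel, CoactBr.lift_one_ract]
  · conv_lhs => rw [← h, CoactBr.lift_ract_ract, mul_inv_cancel, CoactBr.lift_one_ract]

variable (A) in
/-- The inertia at a point is trivial. -/
def Triv {K : Type u} [CommRing K] [Algebra R K] (x : B →ₐ[R] K) : Prop :=
  ∀ (T : Over (Spec (CommRingCat.of R))) (h : T ⟶ CoactBr.sp R K) (g : T ⟶ CoactBr.sp R A),
    lift g (h ≫ CoactBr.pt x) ≫ (CoactBr.action R A B).act = h ≫ CoactBr.pt x → g = 1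

theorem Triv.comp {K L : Type u} [CommRing K] [Algebra R K] [CommRing L] [Algebra R L] {x : B →ₐ[R] K}
    (hx : Triv A x) (ψ : K →ₐ[R] L) : Triv A (ψ.comp x) := fun T h g hg =>
  hx T (h ≫ CoactBr.pt ψ) g (by rw [CoactBr.pt_comp, ← Category.assoc] at hg; exact hg)

theorem Triv.of_comp {K L : Type u} [Field K] [Algebra R K] [Field L] [Algebra R L] {x : B →ₐ[R] K}
    (ψ : K →ₐ[R] L) (hx : Triv A (ψ.comp x)) : Triv A x := by
  intro T h g hg
  haveI : Flat (CoactBr.pt ψ).left := by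
    letI := ψ.toRingHom.toAlgebra
    refine (Flat.SpecMap_iff (f := CommRingCat.ofHom ψ.toRingHom)).2 ?_
    show (algebraMap K L).Flat
    rw [RingHom.flat_algebraMap_iff]
    infer_instance
  haveI : Surjective (CoactBr.pt ψ).left :=
    ⟨fun y => ⟨IsLocalRing.closedPoint L, @Subsingleton.elim (PrimeSpectrum K) _ _ _⟩⟩
  let T' : Over (Spec (CommRingCat.of R)) :=
    Over.mk (pullback.fst h.left (CoactBr.pt ψ).left ≫ T.hom)
  let q : T' ⟶ T := Over.homMk (pullback.fst _ _) rfl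
  let h' : T' ⟶ CoactBr.sp R L := Over.homMk (pullback.snd _ _) (by
    show pullback.snd _ _ ≫ _ = pullback.fst _ _ ≫ T.hom
    rw [← Over.w (CoactBr.pt ψ), ← Over.w h, ← Category.assoc, ← pullback.condition, Category.assoc])
  have hq : q ≫ h = h' ≫ CoactBr.pt ψ := Over.OverMorphism.ext pullback.condition
  have h1 : q ≫ g = 1 := by
    refine hx T' h' (q ≫ g) ?_
    have e := congrArg (q ≫ ·) hg
    simp only [← Category.assoc, CartesianMonoidalCategory.comp_lift, hq] at e
    rwa [CoactBr.pt_comp, ← Category.assoc]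
  haveI : Epi q.left := Flat.epi_of_flat_of_surjective (pullback.fst _ _)
  have h2 : q ≫ g = q ≫ (1 : T ⟶ CoactBr.sp R A) := h1.trans (MonObj.comp_one q).symm
  exact Over.OverMorphism.ext ((cancel_epi q.left).1 (congrArg (fun m => m.left) h2))

variable [Module.Finite R A] [Module.Projective R A]

/-- Geometric points which agree on invariants are conjugate. -/
theorem exists_translate' {K : Type u} [Field K] [IsAlgClosed K] [Algebra R K] (x₁ x₂ : B →ₐ[R] K)
    (h : ∀ c ∈ GLin.invariants R A B, x₁ c = x₂ c) :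
    ∃ g : A →ₐ[R] K, lift (CoactBr.pt x₁) (CoactBr.pt g) ≫ CoactBr.ract R A B = CoactBr.pt x₂ := by
  obtain ⟨φ, hs, ht⟩ := GrpQuot.exists_arrow (grpR R A B) (x := x₁.toRingHom) (y := x₂.toRingHom)
    fun c hc => h c ((eqLocus_iff c).1 hc)
  let φ' : B ⊗[R] A →ₐ[R] K :=
    { toRingHom := φ
      commutes' := fun r => (RingHom.congr_fun hs (algebraMap R B r)).trans (x₁.commutes r) }
  refine ⟨pa φ', ?_⟩
  rw [show x₁ = pb φ' from AlgHom.coe_ringHom_injective hs.symm, CoactBr.lift_pt_ract, lift_pb_pa]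
  exact congrArg CoactBr.pt (AlgHom.coe_ringHom_injective ht)

/-- Conjugate points have conjugate inertia. -/
theorem fix_conj {K : Type u} [CommRing K] [Algebra R K] {x₁ x₂ : B →ₐ[R] K} {g : CoactBr.sp R K ⟶ CoactBr.sp R A}
    (hg : lift (CoactBr.pt x₁) g ≫ CoactBr.ract R A B = CoactBr.pt x₂)
    (T : Over (Spec (CommRingCat.of R))) (h : T ⟶ CoactBr.sp R K) (k : T ⟶ CoactBr.sp R A) :
    lift k (h ≫ CoactBr.pt x₁) ≫ (CoactBr.action R A B).act = h ≫ CoactBr.pt x₁ ↔
      lift ((h ≫ g)⁻¹ * k * (h ≫ g)) (h ≫ CoactBr.pt x₂) ≫ (CoactBr.action R A B).act = h ≫ CoactBr.pt x₂ := by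
  have e₂ : h ≫ CoactBr.pt x₂ = lift (h ≫ CoactBr.pt x₁) (h ≫ g) ≫ CoactBr.ract R A B := by
    rw [← hg, ← Category.assoc, CartesianMonoidalCategory.comp_lift]
  rw [fix_iff k (h ≫ CoactBr.pt x₁), fix_iff ((h ≫ g)⁻¹ * k * (h ≫ g)) (h ≫ CoactBr.pt x₂), e₂,
    CoactBr.lift_ract_ract,
    _root_.mul_assoc (h ≫ g)⁻¹, mul_inv_cancel_left, ← CoactBr.lift_ract_ract]
  refine ⟨fun e => by rw [e], fun e => ?_⟩
  have h' : lift (lift (lift (h ≫ CoactBr.pt x₁) k ≫ CoactBr.ract R A B) (h ≫ g) ≫ CoactBr.ract R A B) (h ≫ g)⁻¹ ≫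
      CoactBr.ract R A B = _ := congrArg (fun z => lift z (h ≫ g)⁻¹ ≫ CoactBr.ract R A B) e
  simp only [CoactBr.lift_ract_ract, mul_inv_cancel, _root_.mul_assoc, _root_.mul_one, CoactBr.lift_one_ract] at h'
  exact h'

/-- Triviality of inertia depends only on the point of the quotient. -/
theorem Triv.of_agree {K₁ K₂ : Type u} [Field K₁] [Algebra R K₁] [Field K₂] [Algebra R K₂] {x₁ : B →ₐ[R] K₁}
    (h₁ : Triv A x₁) (x₂ : B →ₐ[R] K₂) (hq : ∀ c ∈ GLin.invariants R A B, x₁ c = 0 ↔ x₂ c = 0) :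
    Triv A x₂ := by
  let C := GLin.invariants R A B
  let f₁ : C →+* K₁ := x₁.toRingHom.comp C.val.toRingHom
  let f₂ : C →+* K₂ := x₂.toRingHom.comp C.val.toRingHom
  let q := RingHom.ker f₁
  have hle₂ : ∀ c ∈ q, f₂ c = 0 := fun c hc => (hq c.1 c.2).1 hc
  haveI : q.IsPrime := RingHom.ker_isPrime f₁
  have i₁ : Function.Injective (Ideal.Quotient.lift q f₁ fun c hc => hc) :=
    RingHom.lift_injective_of_ker_le_ideal q (fun c hc => hc) le_rfl
  have i₂ : Function.Injective (Ideal.Quotient.lift q f₂ hle₂) :=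
    RingHom.lift_injective_of_ker_le_ideal q hle₂ fun c hc => (hq c.1 c.2).2 hc
  let κ := FractionRing (C ⧸ q)
  letI : Algebra κ K₁ := (IsFractionRing.lift i₁).toAlgebra
  letI : Algebra κ K₂ := (IsFractionRing.lift i₂).toAlgebra
  haveI : Nontrivial (K₁ ⊗[κ] K₂) := inferInstance
  obtain ⟨m, hm⟩ := Ideal.exists_maximal (K₁ ⊗[κ] K₂)
  letI := Ideal.Quotient.field m
  let L := AlgebraicClosure ((K₁ ⊗[κ] K₂) ⧸ m)
  let out : K₁ ⊗[κ] K₂ →+* L := (algebraMap ((K₁ ⊗[κ] K₂) ⧸ m) L).comp (Ideal.Quotient.mk m)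
  let a : K₁ →+* L := out.comp (Algebra.TensorProduct.includeLeft (S := κ)).toRingHom
  let b : K₂ →+* L := out.comp Algebra.TensorProduct.includeRight.toRingHom
  have hab : ∀ c : C, a (f₁ c) = b (f₂ c) := by
    intro c
    have e₁ : f₁ c = algebraMap κ K₁ (algebraMap (C ⧸ q) κ (Ideal.Quotient.mk q c)) :=
      (IsFractionRing.lift_algebraMap (K := κ) i₁ (Ideal.Quotient.mk q c)).symm
    have e₂ : f₂ c = algebraMap κ K₂ (algebraMap (C ⧸ q) κ (Ideal.Quotient.mk q c)) :=
      (IsFractionRing.lift_algebraMap (K := κ) i₂ (Ideal.Quotient.mk q c)).symm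
    rw [e₁, e₂]
    refine congrArg out ?_
    show (Algebra.TensorProduct.includeLeft (S := κ) : K₁ →ₐ[κ] K₁ ⊗[κ] K₂) _ =
      (Algebra.TensorProduct.includeRight : K₂ →ₐ[κ] K₁ ⊗[κ] K₂) _
    rw [AlgHom.commutes, AlgHom.commutes]
  letI : Algebra R L := (a.comp (algebraMap R K₁)).toAlgebra
  let aA : K₁ →ₐ[R] L := { toRingHom := a, commutes' := fun _ => rfl }
  let bA : K₂ →ₐ[R] L :=
    { toRingHom := b
      commutes' := fun r => by
        show b (algebraMap R K₂ r) = a (algebraMap R K₁ r)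
        rw [← x₁.commutes, ← x₂.commutes]
        exact (hab (algebraMap R C r)).symm }
  refine Triv.of_comp bA ?_
  obtain ⟨g, hg⟩ := exists_translate' (A := A) (bA.comp x₂) (aA.comp x₁) fun c hc => (hab ⟨c, hc⟩).symm
  intro T h k hk
  have h' := h₁.comp aA T h _ ((fix_conj hg T h k).1 hk)
  rwa [_root_.mul_assoc, inv_mul_eq_one, eq_comm, mul_eq_right] at h'

end Action

section Stab

variable (R A B : Type u) [CommRing R] [CommRing A] [HopfAlgebra R A] [CommRing B] [Algebra R B]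
  [HopfRep.Comod R A B] [GLin.IsCoactAlg R A B]

/-- The ideal of the stabiliser. -/
def stabJ : Ideal (B ⊗[R] A) :=
  Ideal.span (Set.range fun b : B => GLin.coactAlgHom R A B b - b ⊗ₜ[R] (1 : A))

/-- The unit section over `B`. -/
def oneB : B ⊗[R] A →ₐ[B] B :=
  Algebra.TensorProduct.lift (AlgHom.id B B) ((Algebra.ofId R B).comp (Bialgebra.counitAlgHom R A))
    fun _ _ => .all _ _

theorem oneB_apply (c : B ⊗[R] A) : oneB R A B c = oneA c := by
  induction c using TensorProduct.induction_on with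
  | zero => simp
  | add x y hx hy => simp only [map_add, hx, hy]
  | tmul b a => simp [oneB, oneA]

/-- The unit section of the stabiliser. -/
def stabE : (B ⊗[R] A) ⧸ stabJ R A B →ₐ[B] B :=
  Ideal.Quotient.liftₐ _ (oneB R A B) fun c hc => by
    refine (Ideal.span_le (I := RingHom.ker (oneB R A B).toRingHom)).2 ?_ hc
    rintro _ ⟨b, rfl⟩
    show oneB R A B _ = 0
    rw [map_sub, oneB_apply, oneB_apply,
      show oneA (GLin.coactAlgHom R A B b) = b from AlgHom.congr_fun oneA_tgt b]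
    simp [oneA]

/-- The augmentation module of the stabiliser. -/
def stabN : Submodule B ((B ⊗[R] A) ⧸ stabJ R A B) := LinearMap.ker (stabE R A B).toLinearMap

/-- The projection onto the augmentation module. -/
def stabPi : (B ⊗[R] A) ⧸ stabJ R A B →ₗ[B] stabN R A B :=
  LinearMap.codRestrict _ (LinearMap.id - Algebra.linearMap B _ ∘ₗ (stabE R A B).toLinearMap) fun m => by
    show stabE R A B (m - algebraMap B _ (stabE R A B m)) = 0
    rw [map_sub, AlgHom.commutes]
    simp

theorem stabPi_coe (n : stabN R A B) : stabPi R A B n.1 = n := by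
  refine Subtype.ext ?_
  show n.1 - algebraMap B _ (stabE R A B n.1) = n.1
  rw [show stabE R A B n.1 = 0 from n.2, map_zero, sub_zero]

theorem finite_stabN [Module.Finite R A] : Module.Finite B (stabN R A B) :=
  haveI : Module.Finite B ((B ⊗[R] A) ⧸ stabJ R A B) :=
    Module.Finite.of_surjective (Ideal.Quotient.mkₐ B (stabJ R A B)).toLinearMap Ideal.Quotient.mk_surjective
  Module.Finite.of_surjective (stabPi R A B) fun n => ⟨n.1, stabPi_coe R A B n⟩

/-- The ideal cutting out the points with nontrivial stabiliser. -/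
def badIdeal : Ideal B := Module.annihilator B (stabN R A B)

variable {R A B}

theorem eq_oneA {L : Type u} [CommRing L] [Algebra R L] (φ : B ⊗[R] A →ₐ[R] L)
    (h : pa φ = (Algebra.ofId R L).comp (Bialgebra.counitAlgHom R A)) (c : B ⊗[R] A) :
    φ c = pb φ (oneA c) := by
  refine AlgHom.congr_fun (ext_pb_pa (φ := φ) (ψ := (pb φ).comp oneA) ?_ ?_) c
  · ext b
    simp [oneA]
  · rw [h]
    ext a
    simp [oneA]
    exact (φ.commutes _).symm

theorem kill_of_triv {K L : Type u} [CommRing K] [Algebra R K] [CommRing L] [Algebra R L] {x : B →ₐ[R] K}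
    (hx : Triv A x) (φ : B ⊗[R] A →ₐ[R] L) (ψ : K →ₐ[R] L) (h₁ : ∀ b, φ (b ⊗ₜ 1) = ψ (x b))
    (h₂ : ∀ b, φ (GLin.coactAlgHom R A B b) = φ (b ⊗ₜ 1)) (c : B ⊗[R] A) (hc : oneA c = 0) : φ c = 0 := by
  have hpb : pb φ = ψ.comp x := AlgHom.ext h₁
  have hfix : φ.comp (GLin.coactAlgHom R A B) = pb φ := AlgHom.ext h₂
  have h : CoactBr.pt (pa φ) = 1 := by
    refine hx (CoactBr.sp R L) (CoactBr.pt ψ) _ ?_
    rw [← CoactBr.pt_comp, ← hpb, fix_iff, CoactBr.lift_pt_ract, lift_pb_pa, hfix]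
  rw [CoactBr.one_eq_pt] at h
  rw [eq_oneA φ (CoactBr.pt_injective h) c, hc, map_zero]

/-- A prime with trivial inertia is not in the bad locus. -/
theorem not_badIdeal_le [Module.Finite R A] (p : PrimeSpectrum B)
    (hp : Triv A (IsScalarTower.toAlgHom R B p.asIdeal.ResidueField)) : ¬ badIdeal R A B ≤ p.asIdeal := by
  haveI := finite_stabN R A B
  let κ := p.asIdeal.ResidueField
  let M := (B ⊗[R] A) ⧸ stabJ R A B
  have hN : ∀ n : stabN R A B, (1 : κ) ⊗ₜ[B] n.1 = (0 : κ ⊗[B] M) := by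
    rintro ⟨n, hn⟩
    obtain ⟨c, rfl⟩ := Ideal.Quotient.mk_surjective n
    refine kill_of_triv (L := κ ⊗[B] M) hp
      (((Algebra.TensorProduct.includeRight : M →ₐ[B] κ ⊗[B] M).restrictScalars R).comp
        (Ideal.Quotient.mkₐ R (stabJ R A B)))
      ((Algebra.TensorProduct.includeLeft : κ →ₐ[B] κ ⊗[B] M).restrictScalars R) (fun b => ?_) (fun b => ?_) c
      ((oneB_apply R A B c).symm.trans hn)
    · show (1 : κ) ⊗ₜ[B] Ideal.Quotient.mk (stabJ R A B) (b ⊗ₜ 1) = algebraMap B κ b ⊗ₜ[B] (1 : M)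
      rw [show Ideal.Quotient.mk (stabJ R A B) (b ⊗ₜ 1) = algebraMap B M b from rfl,
        Algebra.algebraMap_eq_smul_one, Algebra.algebraMap_eq_smul_one, TensorProduct.smul_tmul]
    · show (1 : κ) ⊗ₜ[B] Ideal.Quotient.mk (stabJ R A B) (GLin.coactAlgHom R A B b) =
        (1 : κ) ⊗ₜ[B] Ideal.Quotient.mk (stabJ R A B) (b ⊗ₜ 1)
      exact congrArg (fun m => (1 : κ) ⊗ₜ[B] m) (Ideal.Quotient.eq.2 (Ideal.subset_span ⟨b, rfl⟩))
  have hsub : Subsingleton (κ ⊗[B] stabN R A B) := by
    refine ⟨fun x y => ?_⟩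
    suffices h : ∀ z : κ ⊗[B] stabN R A B, z = 0 by rw [h x, h y]
    intro z
    induction z using TensorProduct.induction_on with
    | zero => rfl
    | add x y hx hy => rw [hx, hy, add_zero]
    | tmul k n =>
      have e := congrArg ((stabPi R A B).lTensor κ) (hN n)
      rw [LinearMap.lTensor_tmul, map_zero, stabPi_coe] at e
      rw [show k ⊗ₜ[B] n = k • ((1 : κ) ⊗ₜ[B] n) by rw [TensorProduct.smul_tmul', smul_eq_mul, _root_.mul_one], e,
        smul_zero]
  intro hle
  have : p ∈ Module.support B (stabN R A B) := by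
    rw [Module.support_eq_zeroLocus]
    exact hle
  exact not_subsingleton_iff_nontrivial.2
    ((Module.mem_support_iff_nontrivial_residueField_tensorProduct p).1 this) hsub

theorem eq_counit_of_fix {L : Type u} [CommRing L] [Algebra R L] (φ : B ⊗[R] A →ₐ[R] L)
    (hfix : φ.comp (GLin.coactAlgHom R A B) = pb φ)
    (hbad : ∀ P : PrimeSpectrum L, ¬ badIdeal R A B ≤ P.asIdeal.comap (pb φ).toRingHom) :
    pa φ = (Algebra.ofId R L).comp (Bialgebra.counitAlgHom R A) := by
  have hJ : stabJ R A B ≤ RingHom.ker φ.toRingHom := by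
    refine Ideal.span_le.2 ?_
    rintro _ ⟨b, rfl⟩
    show φ _ = 0
    rw [map_sub]
    exact sub_eq_zero.2 (AlgHom.congr_fun hfix b)
  let φ' := Ideal.Quotient.lift (stabJ R A B) φ.toRingHom fun c hc => hJ hc
  have htop : (badIdeal R A B).map (pb φ).toRingHom = ⊤ := by
    by_contra hne
    obtain ⟨P, hP, hle⟩ := Ideal.exists_le_maximal _ hne
    exact hbad ⟨P, hP.isPrime⟩ (Ideal.map_le_iff_le_comap.1 hle)
  ext a
  let c : B ⊗[R] A := (1 : B) ⊗ₜ a - (algebraMap R B (Coalgebra.counit a)) ⊗ₜ (1 : A)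
  have hc : Ideal.Quotient.mk (stabJ R A B) c ∈ stabN R A B := by
    show oneB R A B c = 0
    rw [oneB_apply]
    simp [c, oneA]
  have hkill : ∀ r ∈ badIdeal R A B, pb φ r * φ c = 0 := by
    intro r hr
    have e : r • (⟨_, hc⟩ : stabN R A B) = 0 := (Module.mem_annihilator).1 hr _
    have e' := congrArg (fun n : stabN R A B => φ' n.1) e
    simp only [Submodule.coe_smul, ZeroMemClass.coe_zero, map_zero] at e'
    rw [show r • Ideal.Quotient.mk (stabJ R A B) c = Ideal.Quotient.mk _ (algebraMap B (B ⊗[R] A) r * c) by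
      rw [← Algebra.smul_def]; rfl] at e'
    change φ (algebraMap B (B ⊗[R] A) r * c) = 0 at e'
    rw [map_mul] at e'
    exact e'
  have hφc : φ c = 0 := by
    have h1 : (1 : L) ∈ Submodule.annihilator (Ideal.span {φ c}) := by
      refine (show (badIdeal R A B).map (pb φ).toRingHom ≤ _ from
        Ideal.map_le_iff_le_comap.2 fun r hr => ?_) (htop ▸ Submodule.mem_top)
      rw [Ideal.mem_comap, Submodule.mem_annihilator_span_singleton]
      exact hkill r hr
    simpa [Submodule.mem_annihilator_span_singleton] using h1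
  simp only [c, map_sub, sub_eq_zero] at hφc
  refine hφc.trans ?_
  show pb φ (algebraMap R B _) = _
  rw [AlgHom.commutes]
  rfl

/-- Outside the bad locus, stabilisers are trivial. -/
theorem eq_one_of_fix {T : Over (Spec (CommRingCat.of R))} (ζ : T ⟶ CoactBr.sp R B) (g : T ⟶ CoactBr.sp R A)
    (hg : lift g ζ ≫ (CoactBr.action R A B).act = ζ)
    (hbad : ∀ t, ¬ badIdeal R A B ≤ (ζ.left t).asIdeal) : g = 1 := by
  refine Over.OverMorphism.ext (Scheme.Cover.hom_ext T.left.affineCover _ _ fun i => ?_)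
  let T' : Over (Spec (CommRingCat.of R)) := Over.mk (T.left.affineCover.f i ≫ T.hom)
  let j : T' ⟶ T := Over.homMk (T.left.affineCover.f i) rfl
  suffices h : j ≫ g = j ≫ (1 : T ⟶ CoactBr.sp R A) from congrArg (fun m => m.left) h
  rw [MonObj.comp_one]
  have hg' := congrArg (j ≫ ·) ((fix_iff g ζ).1 hg)
  simp only [← Category.assoc, CartesianMonoidalCategory.comp_lift] at hg'
  obtain ⟨L, _, _, c, hex, hinj, hiso⟩ := exists_affinization T'
  haveI : IsAffine T'.left := inferInstanceAs (IsAffine (T.left.affineCover.X i))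
  haveI := hiso ‹_›
  obtain ⟨x, hx⟩ := hex B (j ≫ ζ)
  obtain ⟨a, ha⟩ := hex A (j ≫ g)
  rw [← hx, ← ha, ← CartesianMonoidalCategory.comp_lift, Category.assoc, CoactBr.lift_pt_ract] at hg'
  have hfix := hinj B _ _ hg'
  let φ : B ⊗[R] A →ₐ[R] L := Algebra.TensorProduct.lift x a fun _ _ => .all _ _
  have hpb : pb φ = x := Algebra.TensorProduct.lift_comp_includeLeft _ _ fun _ _ => .all _ _
  have hpa : pa φ = a := AlgHom.ext fun r => by simp [φ]
  rw [← ha, ← hpa, eq_counit_of_fix φ (hfix.trans hpb.symm) ?_, ← CoactBr.one_eq_pt, MonObj.comp_one]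
  intro P
  obtain ⟨t, ht⟩ := c.left.surjective P
  have e := congrArg (fun m => m.left t) hx
  simp only [Over.comp_left, Scheme.Hom.comp_apply, ht] at e
  rw [hpb]
  show ¬ badIdeal R A B ≤ ((CoactBr.pt x).left P).asIdeal
  rw [e]
  exact hbad _

end Stab

end Groth.Agent.CoactOrb23
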